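import Groth.Agent.Lib.LCSupp.Finite
import Mathlib.RingTheory.Regular.Flat
import Groth.Prelude.Def_CAlg

/-! The hull of a module with depth at least two along a set of primes. -/

set_option autoImplicit false

universe u

open CategoryTheory Limits Abelian PrimeSpectrum GrothLib.LCSupp

namespace GrothLib.DepthHull3

variable {R : Type u} [CommRing R] {T : Set (PrimeSpectrum R)}

/-- `0 → J → R → R/J → 0`. -/
noncomputable abbrev seqI (J : Ideal R) : ShortComplex (ModuleCat.{u} R) :=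
  ShortComplex.mk (X₁ := ModuleCat.of R J) (X₂ := ModuleCat.of R R) (X₃ := quotI J) (ModuleCat.ofHom J.subtype)
    (ModuleCat.ofHom J.mkQ) (ModuleCat.hom_ext (LinearMap.ext fun x => (Submodule.Quotient.mk_eq_zero _).2 x.2))

theorem seqI_shortExact (J : Ideal R) : (seqI J).ShortExact where
  exact := (ShortComplex.moduleCat_exact_iff _).2 fun x hx => ⟨⟨x, (Submodule.Quotient.mk_eq_zero J).1 hx⟩, rfl⟩
  mono_f := (ModuleCat.mono_iff_injective _).2 J.injective_subtype
  epi_g := (ModuleCat.epi_iff_surjective _).2 J.mkQ_surjective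

/-- The class in `Ext¹` of a map out of an ideal. -/
noncomputable def cls {J : Ideal R} {M : ModuleCat.{u} R} (h : ModuleCat.of R J ⟶ M) : Ext (quotI J) M 1 :=
  (seqI_shortExact J).extClass.comp (Ext.mk₀ h) (add_zero 1)

theorem cls_surjective {J : Ideal R} {M : ModuleCat.{u} R} (e : Ext (quotI J) M 1) :
    ∃ h, cls (J := J) h = e := by
  haveI : Projective (ModuleCat.of R R) := (IsProjective.iff_projective R).1 inferInstance
  obtain ⟨x, hx⟩ := Ext.contravariant_sequence_exact₃ (seqI_shortExact J) M e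
    (Ext.eq_zero_of_projective _) (Nat.add_comm 1 0)
  obtain ⟨h, rfl⟩ := (Ext.mk₀_bijective (ModuleCat.of R J) M).2 x
  exact ⟨h, hx⟩

theorem cls_restrict {J K : Ideal R} (hKJ : K ≤ J) {M : ModuleCat.{u} R} (h : ModuleCat.of R J ⟶ M) :
    (Ext.mk₀ (GrothLib.LCSupp.quotMap hKJ)).comp (cls h) (zero_add 1) =
      cls (ModuleCat.ofHom (Submodule.inclusion hKJ) ≫ h) := by
  let φ : seqI K ⟶ seqI J := ShortComplex.homMk (ModuleCat.ofHom (Submodule.inclusion hKJ)) (𝟙 _)
    (GrothLib.LCSupp.quotMap hKJ) (ModuleCat.hom_ext (LinearMap.ext fun _ => rfl))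
    (ModuleCat.hom_ext (LinearMap.ext fun _ => rfl))
  have hn : (seqI_shortExact K).extClass.comp (Ext.mk₀ φ.τ₁) (add_zero 1) =
      (Ext.mk₀ φ.τ₃).comp (seqI_shortExact J).extClass (zero_add 1) :=
    ShortComplex.ShortExact.extClass_naturality (seqI_shortExact K) (seqI_shortExact J) φ
  unfold cls
  rw [← Ext.comp_assoc_of_third_deg_zero, ← Ext.mk₀_comp_mk₀,
    ← Ext.comp_assoc_of_third_deg_zero (seqI_shortExact K).extClass]
  exact congrArg (fun e => Ext.comp e (Ext.mk₀ h) (add_zero 1)) hn.symm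

theorem exists_of_cls_eq_zero {K : Ideal R} {M : ModuleCat.{u} R} (h : ModuleCat.of R K ⟶ M)
    (h0 : cls h = 0) : ∃ m : M, ∀ a : K, h a = (a : R) • m := by
  obtain ⟨y, hy⟩ := Ext.contravariant_sequence_exact₁ (seqI_shortExact K) M (Ext.mk₀ h) (Nat.add_comm 1 0) h0
  rw [← Ext.mk₀_addEquiv₀_apply y, Ext.mk₀_comp_mk₀] at hy
  refine ⟨(Ext.addEquiv₀ y) (1 : R), fun a => ?_⟩
  rw [← Ext.addEquiv₀.symm.injective hy, ← map_smul, smul_eq_mul, mul_one]
  rfl

variable [IsNoetherianRing R] {M : ModuleCat.{u} R}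

/-- With no `T`-torsion and finite `H¹_T`, maps on some ideal extend all maps on smaller ones. -/
theorem exists_extending (htf : ∀ (K : Ideal R), zeroLocus (K : Set R) ⊆ T → ∀ m : M, (∀ a ∈ K, a • m = 0) → m = 0)
    (hfin : Module.Finite R ((HF T 1).obj M)) :
    ∃ J : Ideal R, zeroLocus (J : Set R) ⊆ T ∧ ∀ (K : Ideal R) (hKJ : K ≤ J), zeroLocus (K : Set R) ⊆ T →
      ∀ h0 : K →ₗ[R] M, ∃ h : J →ₗ[R] M, h ∘ₗ Submodule.inclusion hKJ = h0 := by
  classical
  obtain ⟨s, hs⟩ := hfin.fg_top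
  choose J hJ e he using fun x : {x // x ∈ s} => exists_toHT (x.1 : (HF T 1).obj M)
  choose g hg using fun x => cls_surjective (e x)
  let J₀ := ∏ x ∈ s.attach, J x
  have hJ₀ : zeroLocus (J₀ : Set R) ⊆ T := mem_prod _ _ fun x _ => hJ x
  have hle : ∀ x, J₀ ≤ J x := fun x => Ideal.le_of_dvd (Finset.dvd_prod_of_mem _ (Finset.mem_attach _ x))
  have hsurj : ∀ z : (HF T 1).obj M, ∃ h : J₀ →ₗ[R] M, toHT 1 J₀ hJ₀ M (cls (ModuleCat.ofHom h)) = z := by
    intro z
    have hz : z ∈ Submodule.span R (s : Set ((HF T 1).obj M)) := hs ▸ Submodule.mem_top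
    induction hz using Submodule.span_induction with
    | mem x hx =>
      refine ⟨(g ⟨x, hx⟩).hom ∘ₗ Submodule.inclusion (hle ⟨x, hx⟩), ?_⟩
      refine Eq.trans ?_ (he ⟨x, hx⟩)
      rw [← hg ⟨x, hx⟩, ← toHT_restrict (hJ := hJ _) hJ₀ (hle ⟨x, hx⟩), cls_restrict]
      rfl
    | zero => exact ⟨0, by rw [ModuleCat.ofHom_zero, cls, Ext.mk₀_zero, Ext.comp_zero, map_zero]⟩
    | add x y _ _ hx hy =>
      obtain ⟨a, rfl⟩ := hx
      obtain ⟨b, rfl⟩ := hy
      exact ⟨a + b, by rw [ModuleCat.ofHom_add, cls, Ext.mk₀_add, Ext.comp_add, map_add]; rfl⟩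
    | smul r x _ hx =>
      obtain ⟨a, rfl⟩ := hx
      exact ⟨r • a, by
        rw [show ModuleCat.ofHom (r • a) = r • ModuleCat.ofHom a from rfl, cls, Ext.mk₀_smul, Ext.comp_smul,
          map_smul]
        rfl⟩
  refine ⟨J₀, hJ₀, fun K hKJ hK h0 => ?_⟩
  obtain ⟨h1, hh1⟩ := hsurj (toHT 1 K hK M (cls (ModuleCat.ofHom h0)))
  rw [← toHT_restrict hK hKJ, cls_restrict, ← sub_eq_zero, ← map_sub, toHT_eq_zero_iff] at hh1
  obtain ⟨L, hL, hLK, hzero⟩ := hh1
  let d : ModuleCat.of R K ⟶ M := ModuleCat.ofHom (Submodule.inclusion hKJ) ≫ ModuleCat.ofHom h1 - ModuleCat.ofHom h0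
  have hd : cls d = cls (ModuleCat.ofHom (Submodule.inclusion hKJ) ≫ ModuleCat.ofHom h1) - cls (ModuleCat.ofHom h0) := by
    rw [eq_sub_iff_add_eq, cls, cls, cls, ← Ext.comp_add, ← Ext.mk₀_add, sub_add_cancel]
  rw [← hd, cls_restrict] at hzero
  obtain ⟨m, hm⟩ := exists_of_cls_eq_zero _ hzero
  refine ⟨h1 - LinearMap.toSpanSingleton R M m ∘ₗ J₀.subtype, LinearMap.ext fun b => ?_⟩
  refine sub_eq_zero.1 (htf L hL _ fun c hc => ?_)
  have e1 := hm ⟨c * b.1, L.mul_mem_right _ hc⟩
  have e2 : (⟨c * b.1, hLK (L.mul_mem_right _ hc)⟩ : K) = c • b := rfl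
  replace e1 : h1 (Submodule.inclusion hKJ (c • b)) - h0 (c • b) = (c * b.1) • m := by
    rw [← e2]
    exact e1
  show c • (h1 (Submodule.inclusion hKJ b) - b.1 • m - h0 b) = 0
  rw [map_smul, map_smul, map_smul, mul_smul] at e1
  rw [smul_sub, smul_sub, sub_sub, add_comm, ← sub_sub, e1, sub_self]

omit [IsNoetherianRing R] in
theorem two_le_idealDepth_localization {N : Type u} [AddCommGroup N] [Module R N] (p : Ideal R) [p.IsPrime]
    {x y : R} (hx : x ∈ p) (hy : y ∈ p) (h : RingTheory.Sequence.IsWeaklyRegular N [x, y]) :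
    (2 : ℕ∞) ≤ LocCoh.depth (Localization.AtPrime p) (LocalizedModule p.primeCompl N) := by
  show (2 : ℕ∞) ≤ LocCoh.idealDepth _ _
  unfold LocCoh.idealDepth
  split_ifs
  · exact le_top
  · have h' := h.of_isLocalizedModule (Localization.AtPrime p) p.primeCompl (LocalizedModule.mkLinearMap p.primeCompl N)
    have hmem : ∀ r ∈ List.map (algebraMap R (Localization.AtPrime p)) [x, y],
        r ∈ IsLocalRing.maximalIdeal (Localization.AtPrime p) := fun r hr => by
      obtain ⟨a, ha, rfl⟩ := List.mem_map.1 hr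
      refine (IsLocalization.AtPrime.to_map_mem_maximal_iff (Localization.AtPrime p) p a).2 ?_
      rcases List.mem_cons.1 ha with rfl | ha
      · exact hx
      · rw [List.mem_singleton] at ha; exact ha ▸ hy
    exact le_iSup₂_of_le (List.map (algebraMap R (Localization.AtPrime p)) [x, y]) ⟨h', hmem⟩ (by simp)

theorem exists_hull (hT : StableUnderSpecialization T) (M : ModuleCat.{u} R) [Module.Finite R M]
    (h : ∀ i ≤ 1, Module.Finite R ((HF T i).obj M)) :
    ∃ (M'' : Type u) (_ : AddCommGroup M'') (_ : Module R M'') (_ : Module.Finite R M'') (f : M →ₗ[R] M''),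
      (∀ p : PrimeSpectrum R, p ∉ T → Function.Bijective (LocalizedModule.map p.asIdeal.primeCompl f)) ∧
      ∀ p : PrimeSpectrum R, p ∈ T → 2 ≤ LocCoh.depth (Localization.AtPrime p.asIdeal)
        (LocalizedModule p.asIdeal.primeCompl M'') := by
  classical
  haveI : IsNoetherian R M := isNoetherian_of_isNoetherianRing_of_finite R M
  let N : Submodule R M :=
    { carrier := {m | ∃ K : Ideal R, zeroLocus (K : Set R) ⊆ T ∧ ∀ a ∈ K, a • m = 0}
      zero_mem' := ⟨⊤, mem_top, fun a _ => smul_zero a⟩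
      add_mem' := fun ⟨J, hJ, hm⟩ ⟨J', hJ', hm'⟩ => ⟨J * J', mem_mul hJ hJ', fun a ha => by
        rw [smul_add, hm a (Ideal.mul_le_left ha), hm' a (Ideal.mul_le_right ha), add_zero]⟩
      smul_mem' := fun r m ⟨J, hJ, hm⟩ => ⟨J, hJ, fun a ha => by rw [smul_comm, hm a ha, smul_zero]⟩ }
  obtain ⟨J₁, hJ₁, hNJ⟩ : ∃ J₁ : Ideal R, zeroLocus (J₁ : Set R) ⊆ T ∧ ∀ m ∈ N, ∀ a ∈ J₁, a • m = 0 := by
    obtain ⟨s, hs⟩ := (IsNoetherian.noetherian N : N.FG)
    choose J hJ hm using fun m : {x // x ∈ s} => (hs.le (Submodule.subset_span m.2) : (m.1 : M) ∈ N)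
    refine ⟨∏ m ∈ s.attach, J m, mem_prod _ _ fun m _ => hJ m, fun m hm' a ha => ?_⟩
    rw [← hs] at hm'
    induction hm' using Submodule.span_induction with
    | mem x hx => exact hm ⟨x, hx⟩ a (Ideal.le_of_dvd (Finset.dvd_prod_of_mem _ (Finset.mem_attach _ ⟨x, hx⟩)) ha)
    | zero => exact smul_zero a
    | add x y _ _ hx hy => rw [smul_add, hx, hy, add_zero]
    | smul r x _ hx => rw [smul_comm, hx, smul_zero]
  let M' : ModuleCat.{u} R := ModuleCat.of R (M ⧸ N)
  have htf : ∀ (K : Ideal R), zeroLocus (K : Set R) ⊆ T → ∀ m : M', (∀ a ∈ K, a • m = 0) → m = 0 := by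
    intro K hK m hm
    obtain ⟨m, rfl⟩ := Submodule.Quotient.mk_surjective N m
    refine (Submodule.Quotient.mk_eq_zero N).2 ⟨J₁ * K, mem_mul hJ₁ hK, fun a ha => ?_⟩
    refine Submodule.mul_induction_on ha (fun c hc d hd => ?_) (fun c d hc hd => by rw [add_smul, hc, hd, add_zero])
    rw [mul_smul]
    exact hNJ _ ((Submodule.Quotient.mk_eq_zero N).1 (hm d hd)) c hc
  have hfin : Module.Finite R ((HF T 1).obj M') := by
    let S := GrothLib.LC.subQuot N
    have hS : S.ShortExact := GrothLib.LC.subQuot_shortExact N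
    haveI : Module.Finite R ((HF T 1).obj S.X₂) := h 1 le_rfl
    refine Module.Finite.of_surjective ((HF T 1).map S.g).hom fun y => ?_
    obtain ⟨J', hJ', e, -, h'⟩ := exists_δ hS y
    have hk : ∀ m : S.X₁, ∀ a ∈ J₁, a • m = 0 := fun m a ha =>
      (show ∀ m : N, a • m = 0 from fun m => Subtype.ext (hNJ m.1 m.2 a ha)) m
    obtain ⟨z, hz⟩ := h' 1 (eq_zero_of_killed J₁ hJ₁ hk _)
    exact ⟨z, hz.trans (one_smul R y)⟩
  obtain ⟨J, hJ, hext⟩ := exists_extending htf hfin
  let D := J →ₗ[R] M'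
  haveI : Module.Finite R M' := inferInstanceAs (Module.Finite R (M ⧸ N))
  haveI : IsNoetherian R M' := inferInstance
  haveI : Module.Finite R J := Module.Finite.iff_fg.2 (IsNoetherian.noetherian J)
  haveI : Module.Finite R D := inferInstanceAs (Module.Finite R (J →ₗ[R] M'))
  let f : M →ₗ[R] D := LinearMap.flip ((LinearMap.lsmul R M').comp J.subtype) ∘ₗ N.mkQ
  have hf : ∀ (m : M) (j : J), f m j = (j : R) • N.mkQ m := fun m j => rfl
  refine ⟨D, inferInstance, inferInstance, inferInstance, f, fun p hp => ?_, fun p hp => ?_⟩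
  · obtain ⟨s, hsJ, hsp⟩ : ∃ s ∈ J * J₁, s ∉ p.asIdeal :=
      SetLike.not_le_iff_exists.1 fun hle => hp (mem_mul hJ hJ₁ hle)
    let S := p.asIdeal.primeCompl
    constructor
    · rw [injective_iff_map_eq_zero]
      intro z hz
      induction z using LocalizedModule.induction_on with
      | _ m t =>
        rw [LocalizedModule.map_mk, ← LocalizedModule.zero_mk t, LocalizedModule.mk_eq] at hz
        obtain ⟨u, hu⟩ := hz
        simp only [Submonoid.smul_def, smul_zero] at hu
        rw [← LocalizedModule.zero_mk t, LocalizedModule.mk_eq]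
        have hsJ' : s ∈ J := Ideal.mul_le_left hsJ
        have h1 : ((u : R) * (t : R) * s) • N.mkQ m = 0 := by
          have := LinearMap.congr_fun hu ⟨s, hsJ'⟩
          rw [LinearMap.smul_apply, LinearMap.smul_apply, hf, LinearMap.zero_apply] at this
          rw [mul_smul, mul_smul]; exact this
        rw [← map_smul, Submodule.mkQ_apply, Submodule.Quotient.mk_eq_zero] at h1
        refine ⟨⟨s * (u * s), S.mul_mem hsp (S.mul_mem u.2 hsp)⟩, ?_⟩
        simp only [Submonoid.smul_def, smul_zero]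
        have := hNJ _ h1 s (Ideal.mul_le_right hsJ)
        rw [← mul_smul] at this ⊢
        rw [← this]
        congr 1
        ring
    · intro z
      induction z using LocalizedModule.induction_on with
      | _ d t =>
        have hsJ' : s ∈ J := Ideal.mul_le_left hsJ
        obtain ⟨m, hm⟩ := N.mkQ_surjective (d ⟨s, hsJ'⟩)
        refine ⟨LocalizedModule.mk m (⟨s, hsp⟩ * t), ?_⟩
        rw [LocalizedModule.map_mk, LocalizedModule.mk_eq]
        refine ⟨1, LinearMap.ext fun j => ?_⟩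
        simp only [one_smul, Submonoid.smul_def, Submonoid.coe_mul]
        show (t : R) • ((j : R) • N.mkQ m) = (s * (t : R)) • d j
        rw [hm, ← map_smul, ← map_smul, ← map_smul]
        congr 1
        exact Subtype.ext (by simp [mul_comm, mul_left_comm])
  · have hpT : zeroLocus (p.asIdeal : Set R) ⊆ T := fun q hq =>
      hT ((PrimeSpectrum.le_iff_specializes p q).1 hq) hp
    have hDtf : ∀ d : D, (∀ a ∈ p.asIdeal, a • d = 0) → d = 0 := fun d hd =>
      LinearMap.ext fun j => htf p.asIdeal hpT _ fun a ha => LinearMap.congr_fun (hd a ha) j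
    obtain ⟨x, hx, hxinj⟩ := exists_regular p.asIdeal (M := M') (htf p.asIdeal hpT)
    have hxD : Function.Injective fun d : D => x • d := fun d d' e =>
      LinearMap.ext fun j => hxinj (LinearMap.congr_fun e j)
    have hq : ∀ c : QuotSMulTop x D, (∀ a ∈ p.asIdeal, a • c = 0) → c = 0 := by
      intro c hc
      obtain ⟨d, rfl⟩ := Submodule.Quotient.mk_surjective _ c
      refine (Submodule.Quotient.mk_eq_zero _).2 ?_
      rw [Submodule.mem_smul_pointwise_iff_exists]
      let K := p.asIdeal * J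
      have hKJ : K ≤ J := Ideal.mul_le_right
      have hval : ∀ b : K, ∃ m : M', x • m = d (Submodule.inclusion hKJ b) := by
        intro b
        suffices hb : ∀ v ∈ K, ∃ hv : v ∈ J, ∃ m : M', x • m = d ⟨v, hv⟩ from
          let ⟨hv, m, hm⟩ := hb b.1 b.2; ⟨m, hm⟩
        intro v hv
        refine Submodule.mul_induction_on hv (fun a ha j hj => ?_) (fun a b ⟨ha, m, hm⟩ ⟨hb, n, hn⟩ =>
          ⟨J.add_mem ha hb, m + n, by rw [smul_add, hm, hn, ← map_add]; rfl⟩)
        obtain ⟨g, -, hg⟩ := (Submodule.mem_smul_pointwise_iff_exists _ _ _).1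
          ((Submodule.Quotient.mk_eq_zero _).1 ((Submodule.Quotient.mk_smul _ a d).trans (hc a ha)))
        refine ⟨J.mul_mem_left a hj, g ⟨j, hj⟩, ?_⟩
        rw [← LinearMap.smul_apply, hg, LinearMap.smul_apply, ← map_smul]
        rfl
      choose g hg using hval
      let h0 : K →ₗ[R] M' :=
        { toFun := g
          map_add' := fun a b => hxinj (show x • g (a + b) = x • (g a + g b) by
            rw [smul_add, hg, hg, hg, map_add, map_add])
          map_smul' := fun r a => hxinj (show x • g (r • a) = x • r • g a by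
            rw [smul_comm x r, hg, hg, map_smul, map_smul]) }
      obtain ⟨h, hh⟩ := hext K hKJ (mem_mul hpT hJ) h0
      refine ⟨h, Submodule.mem_top, LinearMap.ext fun j => ?_⟩
      refine sub_eq_zero.1 (htf p.asIdeal hpT _ fun a ha => ?_)
      have e1 := LinearMap.congr_fun hh ⟨a * j.1, Ideal.mul_mem_mul ha j.2⟩
      have e2 : x • h (a • j) = d (a • j) := (congrArg (x • ·) e1).trans (hg _)
      rw [map_smul, map_smul, smul_comm] at e2
      rw [LinearMap.smul_apply, smul_sub, e2, sub_self]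
    haveI : Module.Finite R (QuotSMulTop x D) := Module.Finite.quotient R _
    obtain ⟨y, hy, hyinj⟩ := exists_regular p.asIdeal (M := QuotSMulTop x D) hq
    exact two_le_idealDepth_localization p.asIdeal hx hy
      (.cons hxD (.cons hyinj (RingTheory.Sequence.IsWeaklyRegular.nil R _)))

end GrothLib.DepthHull3
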